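import Cfsg.Agent.Lib.Char.GaloisConj
import Cfsg.Agent.Lib.Char.Monomial
import Cfsg.Agent.Lib.Char.Integral
import Cfsg.Agent.Lib.Char.Complete
import Cfsg.Agent.Lib.Char.Virtual
import Cfsg.Agent.Lib.Char.Linear
import Cfsg.Agent.Lib.CharTools.Basic
import Cfsg.Agent.Lib.Factor.NilpotentHall

/-!
Blichfeldt: a finite group with a faithful character of degree `n` has an abelian Hall subgroup
for the primes larger than `n + 1`; its Sylow subgroups have abelian normal subgroups of index
dividing `n!`.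
-/

set_option autoImplicit false

open scoped Pointwise

namespace CfsgLib.Blichfeldt

universe u

/-- A faithful family of irreducible characters of total degree at most `n`. -/
def Small (n : ℕ) (G : Type u) [Group G] : Prop :=
  ∃ χ : G → ℂ, Cfsg.IsCharacter G χ ∧ (∀ g : G, χ g = χ 1 → g = 1) ∧ ∃ d : ℕ, d ≤ n ∧ χ 1 = d

variable {G : Type u} [Group G] [Finite G] {n : ℕ}

omit [Finite G] in
theorem small_of_charDegree {χ : G → ℂ} (hχ : Cfsg.IsCharacter G χ)
    (hf : ∀ g : G, χ g = χ 1 → g = 1) (hn : Cfsg.charDegree χ = n) : Small n G := by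
  obtain ⟨d, ρ, rfl⟩ := hχ
  refine ⟨_, ⟨d, ρ, rfl⟩, hf, d, le_of_eq ?_, by rw [Representation.char_one, Module.finrank_fin_fun]⟩
  rw [← hn, Cfsg.charDegree, Representation.char_one, Module.finrank_fin_fun]
  simp

omit [Finite G] in
theorem Small.subgroup (h : Small n G) (H : Subgroup G) : Small n H := by
  obtain ⟨χ, hχ, hf, d, hd, h1⟩ := h
  exact ⟨fun x => χ x, Char.IsCharacter.restrict hχ H,
    fun g hg => Subtype.ext (hf _ (by simpa using hg)), d, hd, by simpa using h1⟩

theorem Small.exists_family (h : Small n G) :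
    ∃ (S : Finset (Cfsg.IrrCharacter G)) (deg : Cfsg.IrrCharacter G → ℕ),
      (∀ φ : Cfsg.IrrCharacter G, (φ : G → ℂ) 1 = deg φ) ∧ ∑ φ ∈ S, deg φ ≤ n ∧
      ∀ g : G, (∀ φ ∈ S, (φ : G → ℂ) g = (φ : G → ℂ) 1) → g = 1 := by
  classical
  cases nonempty_fintype G
  obtain ⟨χ, hχ, hf, d, hd, h1⟩ := h
  obtain ⟨m, hm⟩ := Char.IsCharacter.exists_nat_combination hχ
  choose deg hdegpos hdeg using fun φ : Cfsg.IrrCharacter G => Char.IsIrrCharacter.exists_degree φ.2
  refine ⟨Finset.univ.filter fun φ => m φ ≠ 0, deg, hdeg, ?_, fun g hg => hf g ?_⟩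
  · have h2 : (d : ℂ) = ((∑ φ, m φ * deg φ : ℕ) : ℂ) := by
      rw [← h1, hm]
      simp [hdeg]
    rw [Nat.cast_inj] at h2
    refine le_trans ?_ (h2 ▸ hd)
    refine le_trans (Finset.sum_le_sum fun φ hφ => ?_) (Finset.sum_le_univ_sum_of_nonneg fun φ => Nat.zero_le _)
    exact Nat.le_mul_of_pos_left _ (Nat.pos_of_ne_zero (Finset.mem_filter.mp hφ).2)
  · rw [hm]
    simp only [Finset.sum_apply, Pi.smul_apply]
    refine Finset.sum_congr rfl fun φ _ => ?_
    by_cases h0 : m φ = 0
    · simp [h0]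
    · rw [hg φ (by simp [h0])]

omit [Finite G] in
/-- All primes dividing `k` exceed `n + 1`. -/
def Big (n k : ℕ) : Prop := ∀ p : ℕ, p.Prime → p ∣ k → n + 1 < p

theorem mul_comm_of_big (h : Small n G) (hbig : Big n (Nat.card G)) (a b : G) : a * b = b * a := by
  cases nonempty_fintype G
  obtain ⟨S, deg, hdeg, hsum, hf⟩ := h.exists_family
  rw [← mul_inv_eq_one, mul_inv_rev, ← mul_assoc]
  refine hf _ fun φ hφ => ?_
  have hle : deg φ ≤ n := le_trans (Finset.single_le_sum (fun _ _ => Nat.zero_le _) hφ) hsum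
  have h1 : deg φ = 1 := by
    by_contra hne
    obtain ⟨p, hp, hpd⟩ := Nat.exists_prime_and_dvd hne
    have hdvd : deg φ ∣ Nat.card G := by
      have h2 := CharTools.degree_dvd_card φ
      rwa [Cfsg.charDegree, hdeg, Complex.natCast_re, Nat.floor_natCast] at h2
    have hpos : 0 < deg φ := Nat.pos_of_ne_zero fun h0 =>
      Char.IsIrrCharacter.apply_one_ne_zero φ.2 (by rw [hdeg, h0, Nat.cast_zero])
    have := Nat.le_of_dvd hpos hpd
    have := hbig p hp (hpd.trans hdvd)
    omega
  obtain ⟨f, hf'⟩ := Char.IsCharacter.exists_linear (Char.IsIrrCharacter.isCharacter φ.2)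
    (by rw [hdeg, h1, Nat.cast_one])
  rw [hf', hf', map_one]
  simp only [map_mul, map_inv]
  rw [mul_comm (f a) (f b)]
  simp

/-- A character of degree less than `p - 1` that is unchanged by the powers of an element of order
`p` has it in its kernel. -/
theorem eq_degree_of_stable {φ : G → ℂ} (hφ : Cfsg.IsCharacter G φ) {d p : ℕ} (hd : φ 1 = d)
    (hp : p.Prime) (hdp : d + 1 < p) {x : G} (hx : orderOf x = p)
    (hstab : ∀ r : ℕ, r.Coprime p → φ (x ^ r) = φ x) : φ x = φ 1 := by
  obtain ⟨d', ρ, rfl⟩ := hφ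
  have hdd : Module.finrank ℂ (Fin d' → ℂ) = d := by
    rw [Representation.char_one] at hd
    exact_mod_cast hd
  obtain ⟨μ, hμ, -, -, hpow⟩ := Char.exists_eigenvalues ρ x
  rw [hx] at hμ
  classical
  set f := (Finset.univ.filter fun i => μ i = 1).card with hf
  have hsum : ∑ j ∈ Finset.range p, ρ.character (x ^ j) = (p : ℂ) * f := by
    simp only [hpow]
    rw [Finset.sum_comm, hf, Finset.card_filter, Nat.cast_sum, Finset.mul_sum]
    refine Finset.sum_congr rfl fun i _ => ?_
    by_cases h1 : μ i = 1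
    · simp [h1]
    · simp [h1, geom_sum_eq h1, hμ]
  have h0 : (0 : ℕ) ∈ Finset.range p := Finset.mem_range.mpr hp.pos
  rw [← Finset.add_sum_erase _ _ h0, pow_zero, hd, Finset.sum_congr rfl (fun j hj => hstab j
    ((hp.coprime_iff_not_dvd.mpr fun h => by
      obtain ⟨hj0, hjp⟩ := Finset.mem_erase.mp hj
      exact absurd (Nat.le_of_dvd (Nat.pos_of_ne_zero hj0) h) (by simpa using hjp)).symm)),
    Finset.sum_const, Finset.card_erase_of_mem h0, Finset.card_range, nsmul_eq_mul] at hsum
  have hp1 : ((p - 1 : ℕ) : ℂ) ≠ 0 := Nat.cast_ne_zero.mpr (by omega)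
  have hval : ρ.character x = (((((p * f : ℤ) - d : ℤ) : ℚ) / ((p - 1 : ℕ) : ℚ) : ℚ) : ℂ) := by
    push_cast
    rw [eq_div_iff hp1]
    linear_combination hsum
  have hint : IsIntegral ℤ (ρ.character x) := Char.isIntegral_character ρ x
  rw [hval] at hint
  obtain ⟨z, hz⟩ := Char.exists_int_of_isIntegral_ratCast hint
  rw [eq_div_iff (Nat.cast_ne_zero.mpr (by omega))] at hz
  have hzZ : z * ((p - 1 : ℕ) : ℤ) = (p * f : ℤ) - d := by exact_mod_cast hz
  have hfd : f ≤ d := by
    rw [hf, ← hdd]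
    simpa using Finset.card_filter_le (Finset.univ : Finset (Fin (Module.finrank ℂ (Fin d' → ℂ)))) _
  have hdvd : ((p - 1 : ℕ) : ℤ) ∣ ((d - f : ℕ) : ℤ) := by
    refine ⟨(f : ℤ) - z, ?_⟩
    push_cast [Nat.cast_sub hfd, Nat.cast_sub hp.one_le]
    push_cast [Nat.cast_sub hp.one_le] at hzZ
    linear_combination hzZ
  have hfd' : f = d := by
    rw [Int.natCast_dvd_natCast] at hdvd
    rcases Nat.eq_zero_or_pos (d - f) with h | h
    · omega
    · have := Nat.le_of_dvd h hdvd
      omega
  have hall : ∀ i, μ i = 1 := fun i => by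
    have h1 := Finset.eq_univ_of_card (Finset.univ.filter fun i => μ i = 1)
      (by rw [← hf, Fintype.card_fin, hdd, hfd'])
    have h2 := Finset.mem_univ i
    rw [← h1] at h2
    exact (Finset.mem_filter.mp h2).2
  rw [hd]
  have := hpow 1
  simp only [pow_one] at this
  rw [this]
  simp [hall, hdd]

/-- Two large primes dividing the order divide the order of one element. -/
theorem exists_commuting_pair (h : Small n G) {p q : ℕ} (hp : p.Prime) (hq : q.Prime) (hpq : p ≠ q)
    (hpn : n + 1 < p) (hqn : n + 1 < q) (hpG : p ∣ Nat.card G) (hqG : q ∣ Nat.card G) :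
    ∃ x y : G, orderOf x = p ∧ orderOf y = q ∧ x * y = y * x := by
  haveI := Fact.mk hp
  haveI := Fact.mk hq
  classical
  cases nonempty_fintype G
  by_contra hcon
  push Not at hcon
  have hno : ∀ g : G, ¬ (p ∣ orderOf g ∧ q ∣ orderOf g) := fun g ⟨h1, h2⟩ =>
    hcon _ _ (orderOf_pow_orderOf_div (orderOf_pos g).ne' h1)
      (orderOf_pow_orderOf_div (orderOf_pos g).ne' h2) (Commute.pow_pow_self g _ _).eq
  obtain ⟨S, deg, hdeg, hsum, hf⟩ := h.exists_family
  -- congruence exponents
  have hexp : ∀ (l : ℕ) [Fact l.Prime] (r : ℕ), r.Coprime l → ∃ k : ℕ, k.Coprime (Nat.card G) ∧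
      (∀ g : G, ¬ l ∣ orderOf g → g ^ k = g) ∧ ∀ g : G, orderOf g = l → g ^ k = g ^ r := by
    intro l hl r hr
    have hN : Nat.card G ≠ 0 := Nat.card_pos.ne'
    set e := (Nat.card G).factorization l with he
    obtain ⟨k, hk1, hk2⟩ := Nat.chineseRemainder
      ((Nat.coprime_ordCompl hl.out hN).pow_left e) r 1
    refine ⟨k, ?_, fun g hg => ?_, fun g hg => ?_⟩
    · rw [← Nat.ordProj_mul_ordCompl_eq_self (Nat.card G) l]
      refine Nat.Coprime.mul_right ?_ ?_
      · rw [Nat.Coprime, hk1.gcd_eq]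
        exact hr.pow_right e
      · rw [Nat.Coprime, hk2.gcd_eq, Nat.gcd_one_left]
    · have hd : orderOf g ∣ Nat.card G / l ^ (Nat.card G).factorization l := by
        refine Nat.Coprime.dvd_of_dvd_mul_left ((hl.out.coprime_iff_not_dvd.mpr hg).symm.pow_right e) ?_
        rw [Nat.ordProj_mul_ordCompl_eq_self]
        exact orderOf_dvd_natCard g
      conv_rhs => rw [← pow_one g]
      exact pow_eq_pow_iff_modEq.mpr (hk2.of_dvd hd)
    · refine pow_eq_pow_iff_modEq.mpr (hk1.of_dvd ?_)
      rw [hg]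
      refine dvd_pow_self l (Nat.pos_iff_ne_zero.mp (hl.out.factorization_pos_of_dvd hN ?_))
      exact hg ▸ orderOf_dvd_natCard g
  have hkill : ∀ φ ∈ S, (∀ x : G, orderOf x = p → (φ : G → ℂ) x = (φ : G → ℂ) 1) ∨
      (∀ y : G, orderOf y = q → (φ : G → ℂ) y = (φ : G → ℂ) 1) := by
    intro φ hφ
    have hle : deg φ ≤ n := le_trans (Finset.single_le_sum (fun _ _ => Nat.zero_le _) hφ) hsum
    have hφc := Char.IsIrrCharacter.isCharacter φ.2
    by_cases hall : ∀ k : ℕ, k.Coprime (Nat.card G) → (∀ g : G, ¬ p ∣ orderOf g → g ^ k = g) →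
        ∀ g : G, (φ : G → ℂ) (g ^ k) = (φ : G → ℂ) g
    · refine Or.inl fun x hx => eq_degree_of_stable hφc (hdeg φ) hp (by omega) hx fun r hr => ?_
      obtain ⟨k, hk, hk1, hk2⟩ := hexp p r hr
      rw [← hk2 x hx, hall k hk hk1]
    · push Not at hall
      obtain ⟨k, hk, hk1, g₀, hg₀⟩ := hall
      refine Or.inr fun y hy => eq_degree_of_stable hφc (hdeg φ) hq (by omega) hy fun s hs => ?_
      obtain ⟨l, hl, hl1, hl2⟩ := hexp q s hs
      suffices h : CharGalois.powIrr hl φ = φ by
        rw [← hl2 y hy]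
        exact congrFun (congrArg Subtype.val h) y
      have hkne : CharGalois.powIrr hk φ ≠ φ := fun h => hg₀ (congrFun (congrArg Subtype.val h) g₀)
      have hid : ∀ g : G, (CharGalois.powIrr (hk.mul_left hl) φ : G → ℂ) g + (φ : G → ℂ) g =
          (CharGalois.powIrr hk φ : G → ℂ) g + (CharGalois.powIrr hl φ : G → ℂ) g := by
        intro g
        simp only [CharGalois.powIrr_apply]
        by_cases hgp : p ∣ orderOf g
        · have hgq : g ^ l = g := hl1 g fun hgq => hno g ⟨hgp, hgq⟩
          rw [hgq, pow_mul', hgq]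
        · have hgp' : g ^ k = g := hk1 g hgp
          rw [hgp', pow_mul, hgp', add_comm]
      have hinner := congrArg (fun f => Cfsg.classInner f (φ : G → ℂ))
        (funext hid : (CharGalois.powIrr (hk.mul_left hl) φ : G → ℂ) + (φ : G → ℂ) =
          (CharGalois.powIrr hk φ : G → ℂ) + (CharGalois.powIrr hl φ : G → ℂ))
      simp only [Char.classInner_add_left, Char.classInner_irrCharacter, if_true] at hinner
      rw [if_neg hkne, zero_add] at hinner
      by_contra hlne
      rw [if_neg hlne] at hinner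
      split_ifs at hinner <;> norm_num at hinner
  obtain ⟨x, hx⟩ := exists_prime_orderOf_dvd_card' p hpG
  obtain ⟨y, hy⟩ := exists_prime_orderOf_dvd_card' q hqG
  refine hcon x y hx hy ?_
  rw [← mul_inv_eq_one, mul_inv_rev, ← mul_assoc]
  refine hf _ fun φ hφ => ?_
  obtain ⟨d, ρ, hρ, hρφ⟩ := φ.2
  have hval : ∀ g : G, (φ : G → ℂ) g = (φ : G → ℂ) 1 ↔ ρ g = 1 := by
    intro g
    rw [← hρφ, Representation.char_one]
    exact Char.character_eq_degree_iff ρ g
  rw [hval]
  rcases hkill φ hφ with hk | hk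
  · have hx1 : ρ x = 1 := (hval x).mp (hk x hx)
    have hx2 : ρ x⁻¹ = 1 := by
      have h3 : ρ x⁻¹ * ρ x = 1 := by rw [← map_mul, inv_mul_cancel, map_one]
      rwa [hx1, mul_one] at h3
    rw [map_mul, map_mul, map_mul, hx1, hx2, one_mul, mul_one, ← map_mul, mul_inv_cancel, map_one]
  · have hy1 : ρ y = 1 := (hval y).mp (hk y hy)
    have hy2 : ρ y⁻¹ = 1 := by
      have h3 : ρ y⁻¹ * ρ y = 1 := by rw [← map_mul, inv_mul_cancel, map_one]
      rwa [hy1, mul_one] at h3
    rw [map_mul, map_mul, map_mul, hy1, hy2, mul_one, mul_one, ← map_mul, mul_inv_cancel, map_one]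

omit [Finite G] in
/-- `H` is a Hall subgroup for the primes larger than `n + 1`. -/
def IsBigHall (n : ℕ) (H : Subgroup G) : Prop :=
  Big n (Nat.card H) ∧ ∀ p : ℕ, p.Prime → n + 1 < p → ¬ p ∣ H.index

theorem isBigHall_comm (h : Small n G) {H : Subgroup G} (hH : Big n (Nat.card H)) {a b : G}
    (ha : a ∈ H) (hb : b ∈ H) : a * b = b * a :=
  congrArg Subtype.val (mul_comm_of_big (h.subgroup H) hH ⟨a, ha⟩ ⟨b, hb⟩)

/-- In a perfect group the central elements of large prime order are trivial. -/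
theorem eq_one_of_central (h : Small n G) (hperf : commutator G = ⊤) {p : ℕ} (hp : p.Prime)
    (hpn : n + 1 < p) {x : G} (hxc : x ∈ Subgroup.center G) (hxp : x ^ p = 1) : x = 1 := by
  obtain ⟨S, deg, hdeg, hsum, hf⟩ := h.exists_family
  refine hf x fun φ hφ => ?_
  have hle : deg φ ≤ n := le_trans (Finset.single_le_sum (fun _ _ => Nat.zero_le _) hφ) hsum
  obtain ⟨d, ρ, hρ, hρφ⟩ := φ.2
  have hdd : Module.finrank ℂ (Fin d → ℂ) = deg φ := by
    have h1 := hdeg φ
    rw [← hρφ, Representation.char_one] at h1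
    exact_mod_cast h1
  obtain ⟨c, hc⟩ := Char.exists_scalar_of_commute ρ (ρ x) (fun g => by
    rw [← map_mul, ← map_mul, Subgroup.mem_center_iff.mp hxc g])
  have hdet : LinearMap.det (ρ x) = 1 := by
    let f : G →* ℂˣ := MonoidHom.toHomUnits (LinearMap.det.comp ρ)
    have hker : (⊤ : Subgroup G) ≤ f.ker := hperf ▸ Abelianization.commutator_subset_ker f
    exact congrArg Units.val (MonoidHom.mem_ker.mp (hker (Subgroup.mem_top x)))
  have hcd : c ^ deg φ = 1 := by
    have h1 : ρ x = c • (1 : Module.End ℂ (Fin d → ℂ)) := hc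
    rw [h1, LinearMap.det_smul, hdd, map_one, mul_one] at hdet
    exact hdet
  have hdpos : 0 < deg φ := Nat.pos_of_ne_zero fun h0 =>
    Char.IsIrrCharacter.apply_one_ne_zero φ.2 (by rw [hdeg, h0, Nat.cast_zero])
  have hc1 : c = 1 := by
    have hcp : c ^ p = 1 := by
      have h1 : ρ x ^ p = 1 := by rw [← map_pow, hxp, map_one]
      rw [show ρ x = c • (1 : Module.End ℂ (Fin d → ℂ)) from hc, smul_pow, one_pow] at h1
      have : Nontrivial (Fin d → ℂ) := Module.nontrivial_of_finrank_pos (R := ℂ) (hdd ▸ hdpos)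
      exact (smul_left_injective ℂ (one_ne_zero (α := Module.End ℂ (Fin d → ℂ))))
        (h1.trans (one_smul ℂ _).symm)
    have hco : p.Coprime (deg φ) := (hp.coprime_iff_not_dvd).mpr fun hd =>
      absurd (Nat.le_of_dvd hdpos hd) (by omega)
    exact orderOf_eq_one_iff.mp (Nat.eq_one_of_dvd_coprimes hco (orderOf_dvd_of_pow_eq_one hcp)
      (orderOf_dvd_of_pow_eq_one hcd))
  rw [← hρφ]
  show ρ.character x = ρ.character 1
  simp only [Representation.character, map_one]
  rw [hc, hc1, one_smul]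

/-- Blichfeldt: abelian Hall subgroups for the primes larger than `n + 1`. -/
theorem exists_bigHall_aux : ∀ (N : ℕ) {G : Type u} [Group G] [Finite G], Nat.card G = N →
    Small n G → ∃ H : Subgroup G, IsBigHall n H := by
  intro N
  induction N using Nat.strong_induction_on with
  | _ N ih =>
  intro G _ _ hN hsm
  classical
  -- big Hall subgroups of proper subgroups, seen in `G`
  have hsubG : ∀ M : Subgroup G, M ≠ ⊤ → ∃ H : Subgroup G, H ≤ M ∧ Big n (Nat.card H) ∧
      ∀ p : ℕ, p.Prime → n + 1 < p → ¬ p ∣ H.relIndex M := by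
    intro M hM
    have hlt : Nat.card M < N := hN ▸ lt_of_le_of_ne (Nat.le_of_dvd Nat.card_pos
      (Subgroup.card_subgroup_dvd_card M)) fun h => hM (Subgroup.eq_top_of_card_eq M h)
    obtain ⟨H, hH, hH'⟩ := ih _ hlt rfl (hsm.subgroup M)
    refine ⟨H.map M.subtype, Subgroup.map_subtype_le H, ?_, fun p hp hpn hd => hH' p hp hpn ?_⟩
    · rwa [Subgroup.card_map_of_injective M.subtype_injective]
    · rwa [Subgroup.relIndex, Subgroup.subgroupOf, Subgroup.comap_map_eq_self_of_injective
        M.subtype_injective] at hd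
  by_cases hperf : commutator G = ⊤
  swap
  · obtain ⟨M, hM, hcM⟩ : ∃ M : Subgroup G, IsCoatom M ∧ commutator G ≤ M :=
      (eq_top_or_exists_le_coatom (commutator G)).resolve_left hperf
    haveI hMn : M.Normal := Subgroup.Normal.of_commutator_le (h := hcM)
    have hrM : M.index.Prime := by
      have hMt : M ≠ ⊤ := hM.1
      haveI : IsSimpleGroup (G ⧸ M) := by
        haveI : Nontrivial (G ⧸ M) :=
          Finite.one_lt_card_iff_nontrivial.mp (Subgroup.one_lt_index_of_ne_top hMt)
        refine ⟨fun K _ => ?_⟩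
        have hMK : M ≤ K.comap (QuotientGroup.mk' M) := fun x hx => by
          rw [Subgroup.mem_comap, QuotientGroup.mk'_apply, (QuotientGroup.eq_one_iff x).mpr hx]
          exact one_mem K
        rcases eq_or_lt_of_le hMK with h | h
        · left
          rw [← Subgroup.map_comap_eq_self_of_surjective (QuotientGroup.mk'_surjective M) K, ← h]
          simp
        · right
          rw [← Subgroup.map_comap_eq_self_of_surjective (QuotientGroup.mk'_surjective M) K, hM.2 _ h,
            Subgroup.map_top_of_surjective _ (QuotientGroup.mk'_surjective M)]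
      letI : CommGroup (G ⧸ M) :=
        { (inferInstance : Group (G ⧸ M)) with
          mul_comm := fun a b => by
            obtain ⟨a, rfl⟩ := QuotientGroup.mk'_surjective M a
            obtain ⟨b, rfl⟩ := QuotientGroup.mk'_surjective M b
            rw [← map_mul, ← map_mul, QuotientGroup.mk'_apply, QuotientGroup.mk'_apply,
              QuotientGroup.eq]
            refine hcM ?_
            have h := Subgroup.commutator_mem_commutator (Subgroup.mem_top b⁻¹) (Subgroup.mem_top a⁻¹)
            rw [← commutator_def] at h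
            simpa [commutatorElement_def, mul_assoc] using h }
      exact IsSimpleGroup.prime_card
    obtain ⟨H, hHM, hHbig, hHidx⟩ := hsubG M hM.1
    have hHi : H.index = H.relIndex M * M.index := (Subgroup.relIndex_mul_index hHM).symm
    by_cases hr : n + 1 < M.index
    swap
    · refine ⟨H, hHbig, fun p hp hpn hd => ?_⟩
      rw [hHi] at hd
      rcases hp.dvd_mul.mp hd with h | h
      · exact hHidx p hp hpn h
      · exact hr (((Nat.prime_dvd_prime_iff_eq hp hrM).mp h) ▸ hpn)
    haveI := Fact.mk hrM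
    -- Wielandt and Frattini
    have hcovG : Subgroup.normalizer (H : Set G) ⊔ M = ⊤ := by
      rw [eq_top_iff]
      intro g _
      let H₁ : Subgroup M := H.subgroupOf M
      have hH₁card : Nat.card H₁ = Nat.card H :=
        Nat.card_congr (Subgroup.subgroupOfEquivOfLe hHM).toEquiv
      let K₁ : Subgroup M := (H.map (MulAut.conj g).toMonoidHom).subgroupOf M
      have hKM : H.map (MulAut.conj g).toMonoidHom ≤ M := by
        rintro _ ⟨y, hy, rfl⟩
        exact hMn.conj_mem y (hHM hy) g
      have hK₁card : Nat.card K₁ = Nat.card H := by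
        rw [Nat.card_congr (Subgroup.subgroupOfEquivOfLe hKM).toEquiv,
          Subgroup.card_map_of_injective (MulAut.conj g).injective]
      have hnil : Group.IsNilpotent H₁ := by
        letI : CommGroup H₁ :=
          { (inferInstance : Group H₁) with
            mul_comm := mul_comm_of_big ((hsm.subgroup M).subgroup H₁) (hH₁card.symm ▸ hHbig) }
        infer_instance
      obtain ⟨m, hm⟩ := Factor.exists_conj_le_of_nilpotent_hall hnil
        (Nat.coprime_of_dvd fun l hl hl1 hl2 =>
          hHidx l hl (hHbig l hl (hH₁card ▸ hl1)) hl2)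
        (K := K₁) (fun l _ hl => by rw [hH₁card, ← hK₁card]; exact hl)
      have heq : H.map (MulAut.conj ((m : G)⁻¹ * g)).toMonoidHom ≤ H := by
        rintro _ ⟨y, hy, rfl⟩
        have h1 : (⟨g * y * g⁻¹, hKM ⟨y, hy, rfl⟩⟩ : M) ∈ MulAut.conj m • H₁ :=
          hm (show g * y * g⁻¹ ∈ H.map (MulAut.conj g).toMonoidHom from ⟨y, hy, rfl⟩)
        rw [Subgroup.mem_pointwise_smul_iff_inv_smul_mem] at h1
        simpa [Subgroup.mem_subgroupOf, H₁, mul_assoc] using h1
      have hmem : (m : G)⁻¹ * g ∈ Subgroup.normalizer (H : Set G) := by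
        have heq' := Subgroup.eq_of_le_of_card_ge heq
          (Subgroup.card_map_of_injective (MulAut.conj ((m : G)⁻¹ * g)).injective).ge
        rw [Subgroup.mem_normalizer_iff]
        intro y
        constructor
        · intro hy
          exact heq ⟨y, hy, rfl⟩
        · intro hy
          rw [← heq'] at hy
          obtain ⟨z, hz, hzy⟩ := hy
          exact (MulAut.conj ((m : G)⁻¹ * g)).injective hzy ▸ hz
      have : g = (m : G) * ((m : G)⁻¹ * g) := (mul_inv_cancel_left _ _).symm
      rw [this]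
      exact mul_mem (Subgroup.mem_sup_right m.2) (Subgroup.mem_sup_left hmem)
    set Nz := Subgroup.normalizer (H : Set G)
    obtain ⟨R⟩ : Nonempty (Sylow M.index Nz) := inferInstance
    set R' : Subgroup G := (R : Subgroup Nz).map Nz.subtype with hR'
    set L : Subgroup G := H ⊔ R' with hL
    have hRN : R' ≤ Nz := Subgroup.map_subtype_le _
    have hLbig : Big n (Nat.card L) := by
      intro p hp hpd
      have hHN : (H.subgroupOf Nz).Normal := Subgroup.normal_in_normalizer
      have hLN : L ≤ Nz := sup_le Subgroup.le_normalizer hRN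
      let L₀ : Subgroup Nz := H.subgroupOf Nz ⊔ (R : Subgroup Nz)
      have h1 : Nat.card L = Nat.card L₀ := by
        simp only [L₀]
        rw [← Subgroup.card_map_of_injective (f := Nz.subtype) Nz.subtype_injective,
          Subgroup.map_sup, Subgroup.map_subgroupOf_eq_of_le Subgroup.le_normalizer]
      obtain ⟨i, hi⟩ := IsPGroup.iff_card.mp R.2
      have h2 : p ∣ Nat.card H * Nat.card (R : Subgroup Nz) := by
        have h3 := Subgroup.card_mul_index ((H.subgroupOf Nz).subgroupOf
          (H.subgroupOf Nz ⊔ (R : Subgroup Nz)))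
        rw [Nat.card_congr (Subgroup.subgroupOfEquivOfLe le_sup_left).toEquiv,
          Nat.card_congr (Subgroup.subgroupOfEquivOfLe Subgroup.le_normalizer).toEquiv] at h3
        have h4 : (H.subgroupOf Nz).relIndex (H.subgroupOf Nz ⊔ (R : Subgroup Nz)) ∣
            Nat.card (R : Subgroup Nz) := by
          rw [sup_comm, Subgroup.relIndex_sup_right]
          exact Subgroup.index_dvd_card _
        exact dvd_trans (h1 ▸ hpd) (h3 ▸ Nat.mul_dvd_mul_left _ h4)
      rcases hp.dvd_mul.mp h2 with h | h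
      · exact hHbig p hp h
      · rw [hi] at h
        exact (Nat.prime_dvd_prime_iff_eq hp hrM).mp (hp.dvd_of_dvd_pow h) ▸ hr
    have hRM : ¬ R' ≤ M := by
      intro hle
      let f : Nz →* G ⧸ M := (QuotientGroup.mk' M).comp Nz.subtype
      have hf : Function.Surjective f := by
        intro z
        obtain ⟨g, rfl⟩ := QuotientGroup.mk'_surjective M z
        have hg : g ∈ Nz ⊔ M := hcovG ▸ Subgroup.mem_top g
        rw [← SetLike.mem_coe, Subgroup.mul_normal] at hg
        obtain ⟨a, ha, b, hb, rfl⟩ := hg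
        refine ⟨⟨a, ha⟩, ?_⟩
        show (a : G ⧸ M) = ((a * b : G) : G ⧸ M)
        rw [QuotientGroup.eq, inv_mul_cancel_left]
        exact hb
      have hpg : IsPGroup M.index (G ⧸ M) := IsPGroup.of_card (n := 1) (by rw [pow_one]; rfl)
      have hmap : (R : Subgroup Nz).map f = ⊤ :=
        ((R.mapSurjective hf).3 (hpg.to_subgroup ⊤) le_top).symm
      have hbot : (R : Subgroup Nz).map f = ⊥ := by
        rw [Subgroup.map_eq_bot_iff]
        exact fun x hx => (QuotientGroup.eq_one_iff _).mpr (hle (Subgroup.mem_map_of_mem _ hx))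
      rw [hbot] at hmap
      haveI : Nontrivial (G ⧸ M) :=
        Finite.one_lt_card_iff_nontrivial.mp (Subgroup.one_lt_index_of_ne_top hM.1)
      exact bot_ne_top hmap
    refine ⟨L, hLbig, fun p hp hpn hd => ?_⟩
    have hLM : L ⊔ M = ⊤ := hM.2 _ (lt_of_le_of_ne le_sup_right fun h =>
      hRM ((le_sup_right : R' ≤ L).trans (h ▸ le_sup_left)))
    have h1 : L.index = L.relIndex M := by
      have h2 : (L ⊓ M).index = L.relIndex M * M.index := by
        rw [← Subgroup.inf_relIndex_right, Subgroup.relIndex_mul_index inf_le_right]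
      have h3 : (L ⊓ M).index = M.relIndex L * L.index := by
        rw [← Subgroup.inf_relIndex_left (H := L) (K := M),
          Subgroup.relIndex_mul_index inf_le_left]
      have h4 : M.relIndex L = M.index := by
        rw [← Subgroup.relIndex_sup_right (H := L) (K := M), hLM, Subgroup.relIndex_top_right]
      rw [h4] at h3
      rw [mul_comm] at h2
      exact Nat.eq_of_mul_eq_mul_left hrM.pos (h3.symm.trans h2)
    rw [h1] at hd
    exact hHidx p hp hpn (hd.trans (Subgroup.relIndex_dvd_of_le_left M le_sup_left))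
  -- perfect groups
  by_cases hbigdvd : ∃ p, p.Prime ∧ n + 1 < p ∧ p ∣ Nat.card G
  swap
  · push Not at hbigdvd
    exact ⟨⊥, fun p hp hd => by rw [Subgroup.card_bot] at hd; exact absurd hd hp.not_dvd_one,
      fun p hp hpn hd => hbigdvd p hp hpn (Subgroup.index_bot (G := G) ▸ hd)⟩
  obtain ⟨p, hp, hpn, hpG⟩ := hbigdvd
  haveI := Fact.mk hp
  -- centralizers of elements of large prime order
  have hC : ∀ {l : ℕ} {x : G}, l.Prime → n + 1 < l → orderOf x = l →
      ∃ H : Subgroup G, H ≤ Subgroup.centralizer ({x} : Set G) ∧ Big n (Nat.card H) ∧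
        ∀ q : ℕ, q.Prime → n + 1 < q →
          (q ∣ H.index ↔ q ∣ (Subgroup.centralizer ({x} : Set G)).index) ∧
          ¬ q ∣ H.relIndex (Subgroup.centralizer ({x} : Set G)) := by
    intro l x hl hln hx
    set C := Subgroup.centralizer ({x} : Set G) with hCdef
    have hCt : C ≠ ⊤ := fun h => by
      have hc : x ∈ Subgroup.center G := Subgroup.mem_center_iff.mpr fun g =>
        Subgroup.mem_centralizer_singleton_iff.mp (h ▸ Subgroup.mem_top g : g ∈ C)
      have := eq_one_of_central hsm hperf hl hln hc (hx ▸ pow_orderOf_eq_one x)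
      rw [this, orderOf_one] at hx
      exact hl.one_lt.ne hx
    obtain ⟨H, hHC, hHb, hHi⟩ := hsubG C hCt
    refine ⟨H, hHC, hHb, fun q hq hqn => ?_⟩
    rw [← Subgroup.relIndex_mul_index hHC]
    exact ⟨⟨fun h => (hq.dvd_mul.mp h).resolve_left (hHi q hq hqn), fun h => Dvd.dvd.mul_left h _⟩,
      hHi q hq hqn⟩
  -- an element commuting with a whole Sylow subgroup
  have hfull : ∀ {l : ℕ} {x : G}, l.Prime → n + 1 < l → orderOf x = l →
      ¬ l ∣ (Subgroup.centralizer ({x} : Set G)).index := by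
    intro l x hl hln hx hd
    haveI := Fact.mk hl
    obtain ⟨P, hP⟩ := (IsPGroup.of_card (p := l) (n := 1)
      (show Nat.card (Subgroup.zpowers x) = l ^ 1 by rw [pow_one, Nat.card_zpowers, hx])).exists_le_sylow
    refine P.not_dvd_index (hd.trans (Subgroup.index_dvd_of_le fun y hy => ?_))
    rw [Subgroup.mem_centralizer_singleton_iff]
    obtain ⟨i, hi⟩ := IsPGroup.iff_card.mp P.2
    have hb : Big n (Nat.card (P : Subgroup G)) := fun r hr hrd =>
      (Nat.prime_dvd_prime_iff_eq hr hl).mp (hr.dvd_of_dvd_pow (hi ▸ hrd)) ▸ hln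
    exact (congrArg Subtype.val (mul_comm_of_big (hsm.subgroup (P : Subgroup G)) hb
      ⟨x, hP (Subgroup.mem_zpowers x)⟩ ⟨y, hy⟩)).symm
  have hkey : ∀ {x : G}, orderOf x = p → ∀ q : ℕ, q.Prime → n + 1 < q →
      ¬ q ∣ (Subgroup.centralizer ({x} : Set G)).index := by
    intro x hx q hq hqn
    by_cases hqp : q = p
    · subst hqp
      exact hfull hp hpn hx
    intro hqd
    haveI := Fact.mk hq
    have hqG : q ∣ Nat.card G := hqd.trans (Subgroup.index_dvd_card _)
    obtain ⟨x₁, y, hx₁, hy, hxy⟩ := exists_commuting_pair hsm hp hq (Ne.symm hqp) hpn hqn hpG hqG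
    obtain ⟨Hy, hHyC, hHyb, hHyi⟩ := hC hq hqn hy
    have hqHy : ¬ q ∣ Hy.index := fun h => hfull hq hqn hy ((hHyi q hq hqn).1.mp h)
    have hpC : p ∣ Nat.card (Subgroup.centralizer ({y} : Set G)) := by
      rw [← hx₁, ← Nat.card_zpowers]
      exact Subgroup.card_dvd_of_le ((Subgroup.zpowers_le).mpr
        (Subgroup.mem_centralizer_singleton_iff.mpr hxy))
    have hpHy : p ∣ Nat.card Hy := by
      have h1 : Nat.card Hy * Hy.relIndex (Subgroup.centralizer ({y} : Set G)) =
          Nat.card (Subgroup.centralizer ({y} : Set G)) := by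
        rw [← Nat.card_congr (Subgroup.subgroupOfEquivOfLe hHyC).toEquiv, Subgroup.relIndex,
          Subgroup.card_mul_index]
      exact (hp.dvd_mul.mp (h1 ▸ hpC)).resolve_right (hHyi p hp hpn).2
    obtain ⟨x₂, hx₂⟩ := exists_prime_orderOf_dvd_card' p hpHy
    rw [← Subgroup.orderOf_coe] at hx₂
    have hHyx₂ : Hy ≤ Subgroup.centralizer ({(x₂ : G)} : Set G) := fun z hz =>
      Subgroup.mem_centralizer_singleton_iff.mpr
        (congrArg Subtype.val (mul_comm_of_big (hsm.subgroup Hy) hHyb ⟨z, hz⟩ x₂))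
    obtain ⟨H₂, hH₂C, hH₂b, hH₂i⟩ := hC hp hpn hx₂
    have hqH₂ : ¬ q ∣ H₂.index := fun h =>
      hqHy (((hH₂i q hq hqn).1.mp h).trans (Subgroup.index_dvd_of_le hHyx₂))
    have hpH₂ : ¬ p ∣ H₂.index := fun h => hfull hp hpn hx₂ ((hH₂i p hp hpn).1.mp h)
    -- a conjugate of `x` lies in `H₂`
    obtain ⟨P₂⟩ : Nonempty (Sylow p H₂) := inferInstance
    set P₃ : Subgroup G := (P₂ : Subgroup H₂).map H₂.subtype with hP₃
    obtain ⟨P₄, hP₄⟩ := (P₂.2.map H₂.subtype).exists_le_sylow
    have hP34 : P₃ = (P₄ : Subgroup G) := by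
      refine Subgroup.eq_of_le_of_card_ge hP₄ ?_
      have h1 : P₃.index = (P₂ : Subgroup H₂).index * H₂.index := Subgroup.index_map_subtype _
      have h2 : ¬ p ∣ P₃.index := h1 ▸ fun h => (hp.dvd_mul.mp h).elim P₂.not_dvd_index hpH₂
      obtain ⟨i, hi⟩ := IsPGroup.iff_card.mp P₄.2
      have h3 : Nat.card (P₄ : Subgroup G) ∣ Nat.card P₃ * P₃.index := by
        rw [Subgroup.card_mul_index]
        exact Subgroup.card_subgroup_dvd_card _
      refine Nat.le_of_dvd Nat.card_pos (Nat.Coprime.dvd_of_dvd_mul_right ?_ h3)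
      rw [hi]
      exact (hp.coprime_iff_not_dvd.mpr h2).pow_left i
    obtain ⟨P, hP⟩ := (IsPGroup.of_card (p := p) (n := 1)
      (show Nat.card (Subgroup.zpowers x) = p ^ 1 by rw [pow_one, Nat.card_zpowers, hx])).exists_le_sylow
    obtain ⟨g, hg⟩ := MulAction.exists_smul_eq G P P₄
    have hxH₂ : g * x * g⁻¹ ∈ H₂ := by
      have h1 : g * x * g⁻¹ ∈ (P₄ : Subgroup G) := by
        rw [← hg, Sylow.coe_subgroup_smul]
        exact Subgroup.smul_mem_pointwise_smul _ _ _ (hP (Subgroup.mem_zpowers x))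
      rw [← hP34] at h1
      exact Subgroup.map_subtype_le _ h1
    have hle : H₂.map (MulAut.conj g⁻¹).toMonoidHom ≤ Subgroup.centralizer ({x} : Set G) := by
      rintro _ ⟨z, hz, rfl⟩
      rw [Subgroup.mem_centralizer_singleton_iff]
      have h1 := congrArg (fun w => g⁻¹ * w * g) (isBigHall_comm hsm hH₂b hz hxH₂)
      simpa [mul_assoc] using h1
    have h5 := hqd.trans (Subgroup.index_dvd_of_le hle)
    rw [show (MulAut.conj g⁻¹).toMonoidHom = ((MulAut.conj g⁻¹ : G ≃* G) : G →* G) from rfl,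
      Subgroup.index_map_equiv] at h5
    exact hqH₂ h5
  obtain ⟨x, hx⟩ := exists_prime_orderOf_dvd_card' p hpG
  obtain ⟨H, -, hHb, hHi⟩ := hC hp hpn hx
  exact ⟨H, hHb, fun q hq hqn hd => hkey hx q hq hqn ((hHi q hq hqn).1.mp hd)⟩

theorem exists_bigHall (h : Small n G) : ∃ H : Subgroup G, IsBigHall n H :=
  exists_bigHall_aux _ rfl h

end CfsgLib.Blichfeldt
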