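import Cfsg.Agent.Lib.FrobeniusBound.Basic
import Cfsg.Prelude.Def_Characters

/-!
Every faithful complex representation of a finite group is isometric for a suitable inner product.
-/

set_option autoImplicit false

namespace CfsgLib.FrobeniusBound

universe u

variable {G : Type u} [Group G] [Fintype G] {n : ℕ} (ρ : Representation ℂ G (Fin n → ℂ))

/-- The orbit map into `EuclideanSpace ℂ (G × Fin n)`. -/
noncomputable def orbitMap : (Fin n → ℂ) →ₗ[ℂ] EuclideanSpace ℂ (G × Fin n) :=
  ((WithLp.linearEquiv 2 ℂ (G × Fin n → ℂ)).symm.toLinearMap).comp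
    (LinearMap.pi fun p : G × Fin n => (LinearMap.proj p.2).comp (ρ p.1))

theorem orbitMap_apply (x : Fin n → ℂ) (p : G × Fin n) : orbitMap ρ x p = ρ p.1 x p.2 := rfl

theorem orbitMap_injective : Function.Injective (orbitMap ρ) := fun x y h => by
  funext i
  have h1 := congrArg (fun f : EuclideanSpace ℂ (G × Fin n) => f ((1 : G), i)) h
  simp only [orbitMap_apply, map_one, Module.End.one_apply] at h1
  exact h1

theorem norm_orbitMap_apply (g : G) (x : Fin n → ℂ) : ‖orbitMap ρ (ρ g x)‖ = ‖orbitMap ρ x‖ := by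
  rw [EuclideanSpace.norm_eq, EuclideanSpace.norm_eq]
  congr 1
  refine Fintype.sum_equiv ((Equiv.mulRight g).prodCongr (Equiv.refl (Fin n))) _ _ fun p => ?_
  simp [orbitMap_apply, map_mul, Module.End.mul_apply]

/-- A faithful representation transported to an inner product space as isometries. -/
theorem exists_isometric (hρ : Function.Injective ρ) :
    ∃ A : Subgroup G, A.Normal ∧ (∀ x ∈ A, ∀ y ∈ A, x * y = y * x) ∧
      ∀ H : Subgroup G, (∀ x ∈ H, ∀ y ∈ H, x * y = y * x) → (A.subgroupOf H).index ≤ 12 ^ n := by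
  let W := LinearMap.range (orbitMap ρ)
  let e : (Fin n → ℂ) ≃ₗ[ℂ] W := LinearEquiv.ofInjective _ (orbitMap_injective ρ)
  let π : G →* (W →L[ℂ] W) :=
    { toFun := fun g => LinearMap.toContinuousLinearMap
        (e.toLinearMap ∘ₗ (ρ g) ∘ₗ e.symm.toLinearMap)
      map_one' := by
        ext x
        simp
      map_mul' := fun g h => by
        ext x
        simp [Module.End.mul_apply] }
  have hπ : ∀ g (x : Fin n → ℂ), π g (e x) = e (ρ g x) := fun g x => by simp [π]
  have hiso : IsometricAct (G := G) (E := ↥W) π := by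
    intro g y
    obtain ⟨x, rfl⟩ := e.surjective y
    rw [hπ]
    exact norm_orbitMap_apply ρ g x
  have hinj : Function.Injective π := fun g h hgh => hρ (LinearMap.ext fun x => e.injective (by
    rw [← hπ, ← hπ, hgh]))
  obtain ⟨A, h1, h2, h3⟩ := exists_abelian_normal hiso hinj
  refine ⟨A, h1, h2, fun H hH => (h3 H hH).trans (le_of_eq ?_)⟩
  rw [← e.finrank_eq, Module.finrank_fin_fun]

end CfsgLib.FrobeniusBound
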