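import Cfsg.Agent.Lib.Char.Basic
import Mathlib.Analysis.InnerProductSpace.PiL2
import Mathlib.Analysis.InnerProductSpace.Orthonormal
import Mathlib.Analysis.Normed.Operator.NormedSpace
import Mathlib.Analysis.SpecialFunctions.Complex.Arg

/-!
Frobenius' lemma on unitary matrices near the scalars, and the bound `12 ^ n` for the index of
an abelian normal subgroup in every abelian subgroup.
-/

set_option autoImplicit false

open scoped ComplexConjugate InnerProductSpace

namespace CfsgLib.FrobeniusBound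

universe u v

variable {G : Type u} [Group G] {E : Type v} [NormedAddCommGroup E] [InnerProductSpace ℂ E]
  [FiniteDimensional ℂ E] (π : G →* (E →L[ℂ] E))

/-- The representation preserves norms. -/
def IsometricAct : Prop := ∀ (g : G) (x : E), ‖π g x‖ = ‖x‖

variable {π}

theorem mul_apply' (g h : G) (x : E) : π (g * h) x = π g (π h x) := by
  rw [map_mul]
  rfl

theorem inv_apply' (g : G) (x : E) : π g⁻¹ (π g x) = x := by
  rw [← mul_apply', inv_mul_cancel, map_one]
  rfl

theorem apply_inv' (g : G) (x : E) : π g (π g⁻¹ x) = x := by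
  rw [← mul_apply', mul_inv_cancel, map_one]
  rfl

theorem inner_map (hiso : IsometricAct π) (g : G) (x y : E) : ⟪π g x, π g y⟫_ℂ = ⟪x, y⟫_ℂ :=
  (⟨(π g).toLinearMap, hiso g⟩ : E →ₗᵢ[ℂ] E).inner_map_map x y

theorem norm_le_one (hiso : IsometricAct π) (g : G) : ‖π g‖ ≤ 1 :=
  ContinuousLinearMap.opNorm_le_bound _ zero_le_one fun x => by rw [hiso, one_mul]

theorem norm_eigenvalue (hiso : IsometricAct π) {g : G} {x : E} {a : ℂ} (hx : x ≠ 0)
    (h : π g x = a • x) : ‖a‖ = 1 := by
  have h1 := hiso g x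
  rw [h, norm_smul] at h1
  exact (mul_eq_right₀ (norm_ne_zero_iff.mpr hx)).mp h1

theorem inner_eq_zero_of_eigen (hiso : IsometricAct π) {g : G} {x y : E} {a b : ℂ}
    (hx : π g x = a • x) (hy : π g y = b • y) (hab : a ≠ b) : ⟪x, y⟫_ℂ = 0 := by
  rcases eq_or_ne x 0 with rfl | hx0
  · exact inner_zero_left y
  by_contra h0
  have h1 := inner_map hiso g x y
  rw [hx, hy, inner_smul_left, inner_smul_right, ← mul_assoc] at h1
  have h2 : conj a * b = 1 := (mul_eq_right₀ h0).mp h1
  have h3 : conj a * a = 1 := by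
    rw [mul_comm, Complex.mul_conj', norm_eigenvalue hiso hx0 hx]
    norm_num
  exact hab (mul_left_cancel₀ (left_ne_zero_of_mul (h2 ▸ one_ne_zero)) (h3.trans h2.symm))

/-- A nonzero invariant subspace contains a common eigenvector of commuting elements. -/
theorem exists_common_eigen {H : Type*} (π' : H → (E →ₗ[ℂ] E))
    (hcomm : ∀ a b x, π' a (π' b x) = π' b (π' a x)) :
    ∀ (U : Submodule ℂ E), U ≠ ⊥ → (∀ a, ∀ x ∈ U, π' a x ∈ U) →
      ∃ (x : E) (l : H → ℂ), x ∈ U ∧ x ≠ 0 ∧ ∀ a, π' a x = l a • x := by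
  intro U
  induction hd : Module.finrank ℂ U using Nat.strong_induction_on generalizing U with
  | _ d ih =>
    intro hU hinv
    by_cases hsc : ∀ a, ∃ c : ℂ, ∀ x ∈ U, π' a x = c • x
    · choose l hl using hsc
      obtain ⟨x, hx, hx0⟩ := Submodule.exists_mem_ne_zero_of_ne_bot hU
      exact ⟨x, l, hx, hx0, fun a => hl a x hx⟩
    push Not at hsc
    obtain ⟨a, ha⟩ := hsc
    have : Nontrivial U := (Submodule.nontrivial_iff_ne_bot).mpr hU
    obtain ⟨c, hc⟩ := Module.End.exists_eigenvalue ((π' a).restrict (hinv a))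
    obtain ⟨y, hy, hy0⟩ := hc.exists_hasEigenvector
    rw [Module.End.mem_eigenspace_iff] at hy
    let U' : Submodule ℂ E := U ⊓ Module.End.eigenspace (π' a) c
    have hy' : (y : E) ∈ U' := ⟨y.2, Module.End.mem_eigenspace_iff.mpr (congrArg Subtype.val hy)⟩
    have hne : U' ≠ ⊥ := fun h => hy0 (Subtype.ext ((Submodule.mem_bot ℂ).mp (h ▸ hy')))
    have hinv' : ∀ b, ∀ x ∈ U', π' b x ∈ U' := fun b x hx => ⟨hinv b x hx.1, by
      show π' b x ∈ Module.End.eigenspace (π' a) c
      rw [Module.End.mem_eigenspace_iff, hcomm a b x, Module.End.mem_eigenspace_iff.mp hx.2, map_smul]⟩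
    obtain ⟨x₀, hx₀, hx₀c⟩ := ha c
    have hlt : U' < U := lt_of_le_of_ne inf_le_left fun h =>
      hx₀c (Module.End.mem_eigenspace_iff.mp ((h.symm ▸ hx₀ : x₀ ∈ U')).2)
    obtain ⟨x, l, hx, hx0, hl⟩ :=
      ih _ (hd ▸ Submodule.finrank_lt_finrank_of_lt hlt) U' rfl hne hinv'
    exact ⟨x, l, hx.1, hx0, hl⟩

variable [Finite G]

/-- An element all of whose eigenvalues are at distance at most `r` from `z`. -/
theorem norm_sub_smul_le (hiso : IsometricAct π) (g : G) (z : ℂ) {r : ℝ} (hr : 0 ≤ r)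
    (h : ∀ (x : E) (a : ℂ), x ≠ 0 → π g x = a • x → ‖a - z‖ ≤ r) : ‖π g - z • 1‖ ≤ r := by
  classical
  have hpow : (π g).toLinearMap ^ orderOf g = 1 := by
    have h1 : π g ^ orderOf g = 1 := by rw [← map_pow, pow_orderOf_eq_one, map_one]
    have h2 := congrArg (fun f : E →L[ℂ] E => f.toLinearMap) h1
    simp only [ContinuousLinearMap.toLinearMap_pow] at h2
    exact h2
  obtain ⟨b, μ, -, hb⟩ := Char.exists_eigenbasis_of_pow_eq_one _ (orderOf_pos g).ne' hpow
  refine ContinuousLinearMap.opNorm_le_bound _ hr fun x => ?_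
  set S := Finset.univ.image μ
  set w : ℂ → E := fun a => ∑ i ∈ Finset.univ.filter (fun i => μ i = a), b.repr x i • b i with hw
  have hxs : x = ∑ a ∈ S, w a := by
    simp only [hw, S]
    rw [Finset.sum_fiberwise_of_maps_to fun i _ => Finset.mem_image_of_mem μ (Finset.mem_univ i)]
    exact (b.sum_repr x).symm
  have hwe : ∀ a, π g (w a) = a • w a := by
    intro a
    simp only [hw, map_sum, map_smul, Finset.smul_sum]
    refine Finset.sum_congr rfl fun i hi => ?_
    rw [show π g (b i) = μ i • b i from hb i, (Finset.mem_filter.mp hi).2, smul_comm]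
  have horth : ∀ a ∈ S, ∀ c ∈ S, a ≠ c → ⟪w a, w c⟫_ℂ = 0 := fun a _ c _ hac =>
    inner_eq_zero_of_eigen hiso (hwe a) (hwe c) hac
  have hpyth : ∀ f : ℂ → ℂ, ‖∑ a ∈ S, f a • w a‖ ^ 2 = ∑ a ∈ S, (‖f a‖ * ‖w a‖) ^ 2 := by
    intro f
    rw [← Complex.ofReal_inj]
    push_cast
    have e := inner_self_eq_norm_sq_to_K (𝕜 := ℂ) (∑ a ∈ S, f a • w a)
    rw [sum_inner] at e
    simp only [inner_sum] at e
    refine e.symm.trans (Finset.sum_congr rfl fun a ha => ?_)
    rw [Finset.sum_eq_single a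
      (fun c hc hca => by rw [inner_smul_left, inner_smul_right, horth a ha c hc (Ne.symm hca)]; simp)
      (fun h => absurd ha h), inner_self_eq_norm_sq_to_K, norm_smul]
    simp
  have h1 : (π g - z • 1) x = ∑ a ∈ S, (a - z) • w a := by
    rw [hxs]
    simp only [ContinuousLinearMap.sub_apply, ContinuousLinearMap.smul_apply,
      ContinuousLinearMap.one_apply, map_sum, hwe, Finset.smul_sum, ← Finset.sum_sub_distrib,
      sub_smul]
  have h2 : x = ∑ a ∈ S, (1 : ℂ) • w a := by simpa using hxs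
  refine (pow_le_pow_iff_left₀ (norm_nonneg _) (by positivity) two_ne_zero).mp ?_
  conv_rhs => rw [mul_pow, h2, hpyth]
  rw [h1, hpyth, Finset.mul_sum]
  refine Finset.sum_le_sum fun a _ => ?_
  rcases eq_or_ne (w a) 0 with h0 | h0
  · simp [h0]
  rw [norm_one, one_mul, ← mul_pow]
  exact pow_le_pow_left₀ (by positivity)
    (mul_le_mul_of_nonneg_right (h _ a h0 (hwe a)) (norm_nonneg _)) 2

omit [Finite G] in
theorem norm_one_sub_commutator_le (hiso : IsometricAct π) (a b : G) (z w : ℂ) :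
    ‖1 - π (a * b * a⁻¹ * b⁻¹)‖ ≤ 2 * ‖π a - z • 1‖ * ‖π b - w • 1‖ := by
  have h1 : 1 - π (a * b * a⁻¹ * b⁻¹) = (π b * π a - π a * π b) * π (a⁻¹ * b⁻¹) := by
    rw [sub_mul, ← map_mul, ← map_mul, ← map_mul, ← map_mul]
    rw [show b * a * (a⁻¹ * b⁻¹) = 1 by simp [mul_assoc],
      show a * b * (a⁻¹ * b⁻¹) = a * b * a⁻¹ * b⁻¹ by simp [mul_assoc], map_one]
  have h2 : π b * π a - π a * π b = (π b - w • 1) * (π a - z • 1) - (π a - z • 1) * (π b - w • 1) := by
    simp only [mul_sub, sub_mul, smul_mul_assoc, mul_smul_comm, one_mul, mul_one]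
    simp only [smul_sub, smul_smul, mul_comm w z]
    abel
  rw [h1]
  refine (norm_mul_le _ _).trans ((mul_le_of_le_one_right (norm_nonneg _) (norm_le_one hiso _)).trans ?_)
  rw [h2]
  refine (norm_sub_le _ _).trans ((add_le_add (norm_mul_le _ _) (norm_mul_le _ _)).trans (le_of_eq ?_))
  ring

/-- Frobenius: `a` commuting with `[a, b]` commutes with `b` when `⟪x, b x⟫` never vanishes. -/
theorem commute_of_commute_commutator (hiso : IsometricAct π) (hinj : Function.Injective π)
    {a b : G} (hc : a * (a * b * a⁻¹ * b⁻¹) = (a * b * a⁻¹ * b⁻¹) * a)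
    (hb : ∀ x : E, x ≠ 0 → ⟪x, π b x⟫_ℂ ≠ 0) : a * b = b * a := by
  classical
  set h := a⁻¹ * (b * a * b⁻¹) with hh
  suffices h1 : h = 1 by
    have h2 : b * a * b⁻¹ = a := (inv_mul_eq_one.mp (hh ▸ h1)).symm
    exact (mul_inv_eq_iff_eq_mul.mp h2).symm
  by_contra hne
  have hah : a * h = h * a := by
    have e : h = a⁻¹ * (a * b * a⁻¹ * b⁻¹)⁻¹ * a := by
      rw [hh]
      simp [mul_assoc]
    have hc' : Commute a (a * b * a⁻¹ * b⁻¹) := hc
    rw [e]
    exact (((Commute.refl a).inv_right.mul_right hc'.inv_right).mul_right (Commute.refl a)).eq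
  have hpow : (π h).toLinearMap ^ orderOf h = 1 := by
    have h1 : π h ^ orderOf h = 1 := by rw [← map_pow, pow_orderOf_eq_one, map_one]
    have h2 := congrArg (fun f : E →L[ℂ] E => f.toLinearMap) h1
    simp only [ContinuousLinearMap.toLinearMap_pow] at h2
    exact h2
  obtain ⟨B, μ, -, hB⟩ := Char.exists_eigenbasis_of_pow_eq_one _ (orderOf_pos h).ne' hpow
  obtain ⟨i, hi⟩ : ∃ i, μ i ≠ 1 := by
    by_contra hall
    push Not at hall
    refine hne (hinj ?_)
    have h3 : (π h).toLinearMap = (LinearMap.id : E →ₗ[ℂ] E) := B.ext fun i => by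
      rw [hB, hall, one_smul]
      rfl
    rw [map_one]
    ext x
    exact LinearMap.congr_fun h3 x
  obtain ⟨x, l, hx, hx0, hl⟩ := exists_common_eigen (fun _ : Unit => (π a).toLinearMap)
    (fun _ _ _ => rfl) (Module.End.eigenspace (π h).toLinearMap (μ i))
    (fun h0 => B.ne_zero i ((Submodule.mem_bot ℂ).mp
      (h0 ▸ Module.End.mem_eigenspace_iff.mpr (hB i))))
    (fun _ y hy => by
      rw [Module.End.mem_eigenspace_iff] at hy ⊢
      show π h (π a y) = μ i • π a y
      rw [← mul_apply', ← hah, mul_apply', show π h y = μ i • y from hy, map_smul])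
  have hax : π a x = l () • x := hl ()
  have hhx : π h x = μ i • x := Module.End.mem_eigenspace_iff.mp hx
  have hl0 : l () ≠ 0 := fun h0 => by
    have := norm_eigenvalue hiso hx0 hax
    rw [h0, norm_zero] at this
    exact zero_ne_one this
  have hbx : π a (π b⁻¹ x) = (μ i * l ()) • π b⁻¹ x := by
    rw [← mul_apply', show a * b⁻¹ = b⁻¹ * (a * h) by rw [hh]; simp [mul_assoc], mul_apply',
      mul_apply', hhx, map_smul, hax, smul_smul, map_smul]
  have hne' : l () ≠ μ i * l () := fun h0 => hi ((mul_eq_right₀ hl0).mp h0.symm)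
  have h0 := inner_eq_zero_of_eigen hiso hax hbx hne'
  rw [← inner_map hiso b, apply_inv', ← inner_conj_symm, map_eq_zero] at h0
  exact hb x hx0 h0

/-- The centre of the discs used for elements near the scalars. -/
noncomputable def ctr : ℂ := ((Real.sqrt 3 / 2 : ℝ) : ℂ)

theorem norm_ctr : ‖ctr‖ = Real.sqrt 3 / 2 := by
  rw [ctr, Complex.norm_real, Real.norm_eq_abs, abs_of_nonneg (by positivity)]

variable (π) in
/-- Elements near the scalar `ctr`. -/
def Near (g : G) : Prop := ‖π g - ctr • 1‖ < 1 / 2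

omit [Finite G] in
theorem inner_ne_zero_of_norm_sub_lt (hiso : IsometricAct π) {b : G} {z : ℂ} {r : ℝ}
    (hz : r ^ 2 ≤ 1 + ‖z‖ ^ 2) (h : ‖π b - z • 1‖ < r) (x : E) (hx : x ≠ 0) :
    ⟪x, π b x⟫_ℂ ≠ 0 := by
  intro h0
  have h1 : ‖(π b - z • 1) x‖ < r * ‖x‖ :=
    (ContinuousLinearMap.le_opNorm _ x).trans_lt (mul_lt_mul_of_pos_right h (norm_pos_iff.mpr hx))
  have h2 : ‖(π b - z • 1) x‖ ^ 2 = (1 + ‖z‖ ^ 2) * ‖x‖ ^ 2 := by
    simp only [ContinuousLinearMap.sub_apply, ContinuousLinearMap.smul_apply,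
      ContinuousLinearMap.one_apply]
    rw [norm_sub_sq (𝕜 := ℂ), inner_smul_right, inner_eq_zero_symm.mp h0, mul_zero, map_zero, hiso,
      norm_smul]
    ring
  have h3 := pow_lt_pow_left₀ h1 (norm_nonneg _) two_ne_zero
  rw [h2, mul_pow] at h3
  nlinarith [sq_nonneg ‖x‖]

/-- Elements near the scalars commute. -/
theorem commute_of_near (hiso : IsometricAct π) (hinj : Function.Injective π) {a b : G}
    (ha : Near π a) (hb : Near π b) : a * b = b * a := by
  classical
  cases nonempty_fintype G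
  have hclose : ∀ c : G, ‖1 - π c‖ < 1 → a * c = c * a := by
    by_contra hcon
    push Not at hcon
    obtain ⟨c₀, hc₀, hc₀'⟩ := hcon
    obtain ⟨c, hc, hmin⟩ := Finset.exists_min_image
      (Finset.univ.filter fun c : G => ‖1 - π c‖ < 1 ∧ a * c ≠ c * a) (fun c => ‖1 - π c‖)
      ⟨c₀, by simp [hc₀, hc₀']⟩
    simp only [Finset.mem_filter, Finset.mem_univ, true_and] at hc hmin
    have hsw : ‖π c - (1 : ℂ) • 1‖ = ‖1 - π c‖ := by rw [one_smul, norm_sub_rev]
    have hle := norm_one_sub_commutator_le hiso a c ctr 1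
    rw [hsw] at hle
    have hpos : 0 < ‖1 - π c‖ := by
      refine norm_pos_iff.mpr fun h => hc.2 ?_
      have : c = 1 := hinj (by rw [map_one]; exact (sub_eq_zero.mp h).symm)
      rw [this, mul_one, one_mul]
    have hlt : ‖1 - π (a * c * a⁻¹ * c⁻¹)‖ < ‖1 - π c‖ :=
      hle.trans_lt (mul_lt_of_lt_one_left hpos (by unfold Near at ha; linarith))
    refine hc.2 (commute_of_commute_commutator hiso hinj ?_
      (inner_ne_zero_of_norm_sub_lt hiso (z := 1) (r := 1) (by norm_num) (by rw [hsw]; exact hc.1)))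
    by_contra h
    exact absurd (hmin _ ⟨hlt.trans hc.1, h⟩) (not_le.mpr hlt)
  refine commute_of_commute_commutator hiso hinj (hclose _ ?_)
    (inner_ne_zero_of_norm_sub_lt hiso (z := ctr) (r := 1 / 2) ?_ hb)
  · refine (norm_one_sub_commutator_le hiso a b ctr ctr).trans_lt ?_
    unfold Near at ha hb
    nlinarith [norm_nonneg (π a - ctr • 1), norm_nonneg (π b - ctr • 1)]
  · nlinarith [sq_nonneg ‖ctr‖]

omit [Finite G] in
theorem near_conj (hiso : IsometricAct π) {a : G} (ha : Near π a) (g : G) :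
    Near π (g * a * g⁻¹) := by
  unfold Near at ha ⊢
  have h1 : π (g * a * g⁻¹) - ctr • 1 = π g * (π a - ctr • 1) * π g⁻¹ := by
    rw [mul_sub, sub_mul, mul_smul_comm, mul_one, smul_mul_assoc, ← map_mul, ← map_mul, ← map_mul,
      mul_inv_cancel, map_one]
  rw [h1]
  refine lt_of_le_of_lt ?_ ha
  refine (norm_mul_le _ _).trans ((mul_le_of_le_one_right (norm_nonneg _) (norm_le_one hiso _)).trans ?_)
  exact (norm_mul_le _ _).trans (mul_le_of_le_one_left (norm_nonneg _) (norm_le_one hiso _))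

/-- The twelfth of the circle containing a complex number. -/
noncomputable def arc (a : ℂ) : ℤ := ⌈(a.arg + Real.pi) * 6 / Real.pi⌉ - 1

theorem arc_mem (a : ℂ) : arc a ∈ Finset.Icc (0 : ℤ) 11 := by
  have h1 := Complex.neg_pi_lt_arg a
  have h2 := Complex.arg_le_pi a
  have hπ := Real.pi_pos
  rw [Finset.mem_Icc, arc]
  constructor
  · have : (0 : ℤ) < ⌈(a.arg + Real.pi) * 6 / Real.pi⌉ :=
      Int.ceil_pos.mpr (div_pos (by linarith) hπ)
    omega
  · have : ⌈(a.arg + Real.pi) * 6 / Real.pi⌉ ≤ 12 := by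
      rw [Int.ceil_le]
      push_cast
      rw [div_le_iff₀ hπ]
      linarith
    omega

theorem norm_inv_mul_sub_ctr_lt {a b : ℂ} (ha : ‖a‖ = 1) (hb : ‖b‖ = 1) (h : arc a = arc b) :
    ‖a⁻¹ * b - ctr‖ < 1 / 2 := by
  have hπ := Real.pi_pos
  set d := b.arg - a.arg with hd
  have hd' : |d| < Real.pi / 6 := by
    have h' : ⌈(a.arg + Real.pi) * 6 / Real.pi⌉ = ⌈(b.arg + Real.pi) * 6 / Real.pi⌉ := by
      simp only [arc] at h
      omega
    have a1 := Int.le_ceil ((a.arg + Real.pi) * 6 / Real.pi)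
    have a2 := Int.ceil_lt_add_one ((a.arg + Real.pi) * 6 / Real.pi)
    have b1 := Int.le_ceil ((b.arg + Real.pi) * 6 / Real.pi)
    have b2 := Int.ceil_lt_add_one ((b.arg + Real.pi) * 6 / Real.pi)
    rw [h'] at a1 a2
    have e : d * 6 / Real.pi = (b.arg + Real.pi) * 6 / Real.pi - (a.arg + Real.pi) * 6 / Real.pi := by
      rw [hd]
      ring
    have e1 : d * 6 / Real.pi < 1 := by rw [e]; linarith
    have e2 : -1 < d * 6 / Real.pi := by rw [e]; linarith
    rw [div_lt_one hπ] at e1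
    rw [lt_div_iff₀ hπ] at e2
    rw [abs_lt]
    constructor <;> linarith
  have hcos : Real.sqrt 3 / 2 < Real.cos d := by
    rw [← Real.cos_pi_div_six, ← Real.cos_abs d]
    exact Real.cos_lt_cos_of_nonneg_of_le_pi_div_two (abs_nonneg d) (by linarith) hd'
  have hq : a⁻¹ * b = Complex.exp ((d : ℝ) * Complex.I) := by
    conv_lhs => rw [← Complex.norm_mul_exp_arg_mul_I a, ← Complex.norm_mul_exp_arg_mul_I b, ha, hb]
    rw [Complex.ofReal_one, one_mul, one_mul, ← Complex.exp_neg, ← Complex.exp_add, hd]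
    push_cast
    congr 1
    ring
  have hs : Real.sqrt 3 ^ 2 = 3 := Real.sq_sqrt (by norm_num)
  have h2 : ‖a⁻¹ * b - ctr‖ ^ 2 < (1 / 2 : ℝ) ^ 2 := by
    rw [hq, Complex.sq_norm, Complex.normSq_apply]
    simp only [Complex.sub_re, Complex.sub_im, Complex.exp_ofReal_mul_I_re,
      Complex.exp_ofReal_mul_I_im, ctr, Complex.ofReal_re, Complex.ofReal_im]
    nlinarith [Real.sin_sq_add_cos_sq d, mul_lt_mul_of_pos_left hcos
      (show (0 : ℝ) < Real.sqrt 3 / 2 by positivity)]
  exact (pow_lt_pow_iff_left₀ (norm_nonneg _) (by norm_num) two_ne_zero).mp h2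

/-- The bound on abelian subgroups. -/
theorem exists_abelian_normal (hiso : IsometricAct π) (hinj : Function.Injective π) :
    ∃ A : Subgroup G, A.Normal ∧ (∀ x ∈ A, ∀ y ∈ A, x * y = y * x) ∧
      ∀ H : Subgroup G, (∀ x ∈ H, ∀ y ∈ H, x * y = y * x) →
        (A.subgroupOf H).index ≤ 12 ^ Module.finrank ℂ E := by
  classical
  let A := Subgroup.closure {g : G | Near π g}
  have hab : A ≤ Subgroup.centralizer (A : Set G) := by
    have h1 : A ≤ Subgroup.centralizer {g : G | Near π g} := (Subgroup.closure_le _).mpr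
      fun a ha => Subgroup.mem_centralizer_iff.mpr fun b hb => commute_of_near hiso hinj hb ha
    refine (Subgroup.closure_le _).mpr fun a ha => Subgroup.mem_centralizer_iff.mpr fun b hb => ?_
    exact ((Subgroup.mem_centralizer_iff.mp (h1 hb)) a ha).symm
  refine ⟨A, ⟨fun x hx g => ?_⟩, fun x hx y hy => Subgroup.mem_centralizer_iff.mp (hab hy) x hx, ?_⟩
  · have hle : A ≤ A.comap (MulAut.conj g).toMonoidHom :=
      (Subgroup.closure_le _).mpr fun y hy => Subgroup.subset_closure (near_conj hiso hy g)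
    exact hle hx
  intro H hH
  let J : Set (H → ℂ) := {l | ∃ x : E, x ≠ 0 ∧ ∀ h : H, π h x = l h • x}
  choose vec hvec0 hvec using fun l : J => l.2
  have hli : LinearIndependent ℂ vec := by
    refine linearIndependent_of_ne_zero_of_inner_eq_zero hvec0 fun l m hlm => ?_
    obtain ⟨h, hh⟩ : ∃ h, (l : H → ℂ) h ≠ (m : H → ℂ) h := by
      by_contra h
      push Not at h
      exact hlm (Subtype.ext (funext h))
    exact inner_eq_zero_of_eigen hiso (hvec l h) (hvec m h) hh
  haveI : Finite J := hli.finite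
  cases nonempty_fintype J
  have hcardJ : Fintype.card J ≤ Module.finrank ℂ E := hli.fintype_card_le_finrank
  let T : H → (J → ↥(Finset.Icc (0 : ℤ) 11)) := fun h l => ⟨arc ((l : H → ℂ) h), arc_mem _⟩
  have hkey : ∀ h₁ h₂ : H, T h₁ = T h₂ → ((h₁⁻¹ * h₂ : H) : G) ∈ A := by
    intro h₁ h₂ hT
    refine Subgroup.subset_closure ?_
    have hbound : ∀ (x : E) (a : ℂ), x ≠ 0 → π ((h₁⁻¹ * h₂ : H) : G) x = a • x →
        ∃ l : J, a = ((l : H → ℂ) h₁)⁻¹ * (l : H → ℂ) h₂ := by
      intro x a hx hxa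
      obtain ⟨y, l, hy, hy0, hl⟩ := exists_common_eigen (fun h : H => (π h).toLinearMap)
        (fun b c z => by
          show π b (π c z) = π c (π b z)
          rw [← mul_apply', ← mul_apply', hH _ b.2 _ c.2])
        (Module.End.eigenspace (π ((h₁⁻¹ * h₂ : H) : G)).toLinearMap a)
        (fun h0 => hx ((Submodule.mem_bot ℂ).mp (h0 ▸ Module.End.mem_eigenspace_iff.mpr hxa)))
        (fun b z hz => by
          rw [Module.End.mem_eigenspace_iff] at hz ⊢
          show π ((h₁⁻¹ * h₂ : H) : G) (π b z) = a • π b z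
          rw [← mul_apply', hH _ (h₁⁻¹ * h₂).2 _ b.2, mul_apply',
            show π ((h₁⁻¹ * h₂ : H) : G) z = a • z from hz, map_smul])
      refine ⟨⟨l, y, hy0, hl⟩, ?_⟩
      have e1 : π ((h₁⁻¹ * h₂ : H) : G) y = a • y := Module.End.mem_eigenspace_iff.mp hy
      have e2 : π h₁ (π ((h₁⁻¹ * h₂ : H) : G) y) = l h₂ • y := by
        rw [← mul_apply', ← Subgroup.coe_mul, mul_inv_cancel_left]
        exact hl h₂
      rw [e1, map_smul, show π h₁ y = l h₁ • y from hl h₁, smul_smul] at e2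
      have h3 : a * l h₁ = l h₂ := smul_left_injective ℂ hy0 e2
      have hne : l h₁ ≠ 0 := fun h0 => by
        have := norm_eigenvalue hiso hy0 (hl h₁ : π h₁ y = l h₁ • y)
        rw [h0, norm_zero] at this
        exact zero_ne_one this
      show a = (l h₁)⁻¹ * l h₂
      rw [← h3, mul_comm a, inv_mul_cancel_left₀ hne]
    let f : J → ℝ := fun l => ‖((l : H → ℂ) h₁)⁻¹ * (l : H → ℂ) h₂ - ctr‖
    have hf : ∀ l : J, f l < 1 / 2 := fun l =>
      norm_inv_mul_sub_ctr_lt (norm_eigenvalue hiso (hvec0 l) (hvec l h₁))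
        (norm_eigenvalue hiso (hvec0 l) (hvec l h₂)) (congrArg Subtype.val (congrFun hT l))
    obtain ⟨r, hr0, hr, hrf⟩ : ∃ r : ℝ, 0 ≤ r ∧ r < 1 / 2 ∧ ∀ l, f l ≤ r := by
      rcases isEmpty_or_nonempty J with hJ | hJ
      · exact ⟨0, le_rfl, by norm_num, fun l => (hJ.false l).elim⟩
      · obtain ⟨l₀, hl₀⟩ := Finite.exists_max f
        exact ⟨f l₀, norm_nonneg _, hf l₀, hl₀⟩
    refine lt_of_le_of_lt (norm_sub_smul_le hiso _ ctr hr0 fun x a hx hxa => ?_) hr
    obtain ⟨l, rfl⟩ := hbound x a hx hxa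
    exact hrf l
  have hinj' : Function.Injective fun q : H ⧸ A.subgroupOf H => T q.out := by
    intro q₁ q₂ hq
    rw [← QuotientGroup.out_eq' q₁, ← QuotientGroup.out_eq' q₂, QuotientGroup.eq,
      Subgroup.mem_subgroupOf]
    exact hkey _ _ hq
  rw [Subgroup.index]
  refine (Nat.card_le_card_of_injective _ hinj').trans ?_
  rw [Nat.card_eq_fintype_card, Fintype.card_fun, Fintype.card_coe]
  simpa using Nat.pow_le_pow_right (n := 12) (by norm_num) hcardJ

end CfsgLib.FrobeniusBound
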