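import Cfsg.Agent.Lib.FrobeniusBound.Blichfeldt
import Cfsg.Agent.Lib.FrobeniusBound.Unitary
import Mathlib.NumberTheory.PrimeCounting
import Mathlib.Data.Nat.Choose.Multinomial

/-!
An explicit Jordan bound: a finite linear group of degree `n` has an abelian normal subgroup of
index at most `n! * 12 ^ (n * (π (n + 1) + 1))`.
-/

set_option autoImplicit false

namespace CfsgLib.Blichfeldt

universe u

open scoped Nat

variable {G : Type u} [Group G] [Finite G] {n : ℕ}

/-- A nilpotent linear group of degree `n` has an abelian subgroup of index dividing `n!`. -/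
theorem exists_abelian_index_dvd_factorial [Group.IsNilpotent G] (h : Small n G) :
    ∃ B : Subgroup G, (∀ x ∈ B, ∀ y ∈ B, x * y = y * x) ∧ B.index ∣ n ! := by
  classical
  cases nonempty_fintype G
  obtain ⟨S, deg, hdeg, hsum, hf⟩ := h.exists_family
  choose K lam hind using fun ψ : Cfsg.IrrCharacter G =>
    Monomial.exists_linear_indFun (ψ : G → ℂ) ψ.2
  have hidx : ∀ ψ, (K ψ).index = deg ψ := fun ψ => by
    have h1 := hdeg ψ
    rw [hind ψ, Char.indFun_apply_one, map_one, Units.val_one, mul_one] at h1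
    exact_mod_cast h1
  let Φ : G →* ((ψ : S) → Equiv.Perm (G ⧸ K ψ.1)) :=
    Pi.monoidHom fun ψ => MulAction.toPermHom G (G ⧸ K ψ.1)
  refine ⟨Φ.ker, fun a ha b hb => ?_, ?_⟩
  · rw [← mul_inv_eq_one, mul_inv_rev, ← mul_assoc]
    refine hf _ fun ψ hψ => ?_
    have hmem : ∀ y ∈ Φ.ker, ∀ x : G, x⁻¹ * y * x ∈ K ψ := by
      intro y hy x
      have h1 : y ∈ (K ψ).normalCore := by
        rw [Subgroup.normalCore_eq_ker, MonoidHom.mem_ker]
        exact congrFun (MonoidHom.mem_ker.mp hy) ⟨ψ, hψ⟩
      have h2 := h1 x⁻¹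
      rwa [inv_inv] at h2
    rw [hind ψ, Char.indFun_apply, Char.indFun_apply]
    refine congrArg _ (Finset.sum_congr rfl fun x _ => ?_)
    let a' : K ψ := ⟨x⁻¹ * a * x, hmem a ha x⟩
    let b' : K ψ := ⟨x⁻¹ * b * x, hmem b hb x⟩
    have h3 : x⁻¹ * (a * b * a⁻¹ * b⁻¹) * x = ((a' * b' * a'⁻¹ * b'⁻¹ : K ψ) : G) := by
      simp [a', b', mul_assoc]
    rw [h3, Char.extendByZero_coe, show x⁻¹ * 1 * x = ((1 : K ψ) : G) by simp,
      Char.extendByZero_coe]
    simp only [map_mul, map_inv, map_one]
    rw [mul_comm (lam ψ a') (lam ψ b')]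
    simp
  · rw [Subgroup.index_ker]
    refine (Subgroup.card_subgroup_dvd_card _).trans ?_
    rw [Nat.card_pi]
    simp only [Nat.card_perm, ← Subgroup.index_eq_card, hidx]
    rw [Finset.prod_coe_sort S fun ψ => (deg ψ)!]
    exact (Nat.prod_factorial_dvd_factorial_sum S deg).trans (Nat.factorial_dvd_factorial hsum)

omit [Finite G] in
theorem prod_pow_dvd {s : Finset ℕ} (hs : ∀ q ∈ s, q.Prime) (e : ℕ → ℕ) {m : ℕ}
    (h : ∀ q ∈ s, q ^ e q ∣ m) : ∏ q ∈ s, q ^ e q ∣ m := by
  induction s using Finset.induction_on with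
  | empty => simp
  | insert a t ha ih =>
    rw [Finset.prod_insert ha]
    refine Nat.Coprime.mul_dvd_of_dvd_of_dvd (Nat.Coprime.prod_right fun q hq => ?_)
      (h a (Finset.mem_insert_self a t))
      (ih (fun q hq => hs q (Finset.mem_insert_of_mem hq)) fun q hq => h q (Finset.mem_insert_of_mem hq))
    exact Nat.coprime_pow_primes _ _ (hs a (Finset.mem_insert_self a t))
      (hs q (Finset.mem_insert_of_mem hq)) fun he => ha (he ▸ hq)

/-- The `q`-part of the index of a normal subgroup is seen in every subgroup of `q'`-index. -/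
theorem ordProj_index_dvd_relIndex (A K : Subgroup G) [A.Normal] {q : ℕ} (hq : q.Prime)
    (hK : ¬ q ∣ K.index) : q ^ A.index.factorization q ∣ A.relIndex K := by
  have h1 : A.relIndex K * (K ⊔ A).index = A.index := by
    rw [← Subgroup.relIndex_sup_right (H := K) (K := A)]
    exact Subgroup.relIndex_mul_index le_sup_right
  have h2 : q ^ A.index.factorization q ∣ A.relIndex K * (K ⊔ A).index := by
    rw [h1]
    exact Nat.ordProj_dvd A.index q
  refine Nat.Coprime.dvd_of_dvd_mul_right ?_ h2
  exact (hq.coprime_iff_not_dvd.mpr fun hd =>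
    hK (hd.trans (Subgroup.index_dvd_of_le le_sup_left))).pow_left _

/-- The explicit bound for linear groups of degree `n`. -/
theorem exists_abelian_normal_index_le (ρ : Representation ℂ G (Fin n → ℂ))
    (hρ : Function.Injective ρ) :
    ∃ A : Subgroup G, A.Normal ∧ (∀ x ∈ A, ∀ y ∈ A, x * y = y * x) ∧
      A.index ≤ n ! * 12 ^ (n * (Nat.primeCounting (n + 1) + 1)) := by
  classical
  cases nonempty_fintype G
  have hsm : Small n G := by
    refine ⟨ρ.character, ⟨n, ρ, rfl⟩, fun g hg => hρ ?_, n, le_rfl,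
      by rw [Representation.char_one, Module.finrank_fin_fun]⟩
    rw [map_one]
    rw [Representation.char_one] at hg
    exact (Char.character_eq_degree_iff ρ g).mp hg
  obtain ⟨A, hAn, hAc, hA⟩ := FrobeniusBound.exists_isometric ρ hρ
  haveI := hAn
  refine ⟨A, hAn, hAc, ?_⟩
  obtain ⟨H, hH, hH'⟩ := exists_bigHall hsm
  set s := A.index.primeFactors.filter fun q => n + 1 < q
  set t := A.index.primeFactors.filter fun q => ¬ n + 1 < q
  have hsbound : ∏ q ∈ s, q ^ A.index.factorization q ≤ 12 ^ n := by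
    refine (Nat.le_of_dvd (Nat.pos_of_ne_zero Subgroup.index_ne_zero_of_finite)
      (prod_pow_dvd (m := A.relIndex H) ?_ _ ?_)).trans
      (hA H fun x hx y hy => isBigHall_comm hsm hH hx hy)
    · exact fun q hq => (Nat.prime_of_mem_primeFactors (Finset.mem_filter.mp hq).1)
    · intro q hq
      obtain ⟨hq1, hq2⟩ := Finset.mem_filter.mp hq
      exact ordProj_index_dvd_relIndex A H (Nat.prime_of_mem_primeFactors hq1)
        (hH' q (Nat.prime_of_mem_primeFactors hq1) hq2)
  have htone : ∀ q ∈ t, q ^ A.index.factorization q ≤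
      q ^ (n !).factorization q * 12 ^ n := by
    intro q hq
    have hqp := Nat.prime_of_mem_primeFactors (Finset.mem_filter.mp hq).1
    haveI := Fact.mk hqp
    obtain ⟨P⟩ : Nonempty (Sylow q G) := inferInstance
    haveI : Group.IsNilpotent (P : Subgroup G) := P.2.isNilpotent
    obtain ⟨B, hBc, hBdvd⟩ := exists_abelian_index_dvd_factorial (hsm.subgroup (P : Subgroup G))
    set B' : Subgroup G := B.map (P : Subgroup G).subtype with hB'
    have hB'P : B' ≤ P := Subgroup.map_subtype_le B
    have hBi : B'.relIndex P = B.index := by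
      rw [Subgroup.relIndex, hB', Subgroup.subgroupOf, Subgroup.comap_map_eq_self_of_injective
        (P : Subgroup G).subtype_injective]
    have hB'c : ∀ x ∈ B', ∀ y ∈ B', x * y = y * x := by
      rintro _ ⟨x, hx, rfl⟩ _ ⟨y, hy, rfl⟩
      rw [← map_mul, hBc x hx y hy, map_mul]
    obtain ⟨i, hi⟩ := IsPGroup.iff_card.mp P.2
    obtain ⟨j, -, hj⟩ := (Nat.dvd_prime_pow hqp).mp (hi ▸ B.index_dvd_card)
    have hjv : j ≤ (n !).factorization q :=
      (hqp.pow_dvd_iff_le_factorization (Nat.factorial_ne_zero n)).mp (hj ▸ hBdvd)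
    have h1 : A.relIndex P ≤ A.relIndex B' * B'.relIndex P := by
      rw [← Subgroup.inf_relIndex_right A B',
        Subgroup.relIndex_mul_relIndex _ _ _ inf_le_right hB'P]
      exact Subgroup.relIndex_le_of_le_left inf_le_left Subgroup.index_ne_zero_of_finite
    refine (Nat.le_of_dvd (Nat.pos_of_ne_zero Subgroup.index_ne_zero_of_finite)
      (ordProj_index_dvd_relIndex A P hqp P.not_dvd_index)).trans (h1.trans ?_)
    rw [hBi, hj, mul_comm]
    exact Nat.mul_le_mul (Nat.pow_le_pow_right hqp.pos hjv) (hA B' hB'c)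
  have htcard : t.card ≤ Nat.primeCounting (n + 1) := by
    rw [Nat.primeCounting, Nat.primeCounting', Nat.count_eq_card_filter_range]
    refine Finset.card_le_card fun q hq => ?_
    obtain ⟨hq1, hq2⟩ := Finset.mem_filter.mp hq
    exact Finset.mem_filter.mpr ⟨Finset.mem_range.mpr (by omega), Nat.prime_of_mem_primeFactors hq1⟩
  calc A.index = (∏ q ∈ s, q ^ A.index.factorization q) * ∏ q ∈ t, q ^ A.index.factorization q := by
        rw [Finset.prod_filter_mul_prod_filter_not]
        exact (Nat.factorization_prod_pow_eq_self Subgroup.index_ne_zero_of_finite).symm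
    _ ≤ 12 ^ n * ∏ q ∈ t, (q ^ (n !).factorization q * 12 ^ n) :=
        Nat.mul_le_mul hsbound (Finset.prod_le_prod' htone)
    _ = (∏ q ∈ t, q ^ (n !).factorization q) * 12 ^ (n * (t.card + 1)) := by
        rw [Finset.prod_mul_distrib, Finset.prod_const]
        ring
    _ ≤ n ! * 12 ^ (n * (Nat.primeCounting (n + 1) + 1)) :=
        Nat.mul_le_mul (Nat.le_of_dvd (Nat.factorial_pos n) (prod_pow_dvd
          (fun q hq => Nat.prime_of_mem_primeFactors (Finset.mem_filter.mp hq).1) _
          fun q _ => Nat.ordProj_dvd _ _))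
          (Nat.pow_le_pow_right (by norm_num) (Nat.mul_le_mul_left n (by omega)))

end CfsgLib.Blichfeldt
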